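import Cfsg.Agent.Lib.Classical.Quat.Klein
import Cfsg.Agent.Lib.Classical.Dickson.PSL
import Mathlib.FieldTheory.Finite.GaloisField

/-!
# Subfield subgroups of `PSL₂(q)` and `PSL₂(4) ≅ A₅`
-/

set_option autoImplicit false
set_option linter.unusedSectionVars false
set_option backward.isDefEq.respectTransparency false

open Matrix OnePoint
open scoped MatrixGroups CfsgLib.Classical.Dickson

namespace CfsgLib.Classical.Quat

variable {F K : Type*} [Field F] [Fintype F] [Field K] [Fintype K]

theorem exists_ringHom_of_card_pow {m : ℕ} (hm : 1 ≤ m) (h : Fintype.card K ^ m = Fintype.card F) :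
    Nonempty (K →+* F) := by
  obtain ⟨p, hp⟩ := CharP.exists K
  obtain ⟨a, hpp, hKc⟩ := FiniteField.card K p
  haveI : Fact p.Prime := ⟨hpp⟩
  haveI : CharP F p := by
    obtain ⟨r, hr⟩ := CharP.exists F
    obtain ⟨b, hrp, hFc⟩ := FiniteField.card F r
    have : p = r := by
      refine (Nat.prime_dvd_prime_iff_eq hpp hrp).1 (hpp.dvd_of_dvd_pow (n := b) ?_)
      rw [← hFc, ← h, hKc, ← pow_mul]
      exact dvd_pow_self p (Nat.mul_ne_zero a.ne_zero (by omega))
    exact this ▸ hr
  letI : Algebra (ZMod p) K := ZMod.algebra K p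
  letI : Algebra (ZMod p) F := ZMod.algebra F p
  have hd : Module.finrank (ZMod p) K ∣ Module.finrank (ZMod p) F := by
    refine ⟨m, Nat.pow_right_injective hpp.two_le ?_⟩
    show p ^ Module.finrank (ZMod p) F = p ^ (Module.finrank (ZMod p) K * m)
    rw [pow_mul]
    have e1 : Fintype.card F = p ^ Module.finrank (ZMod p) F := by
      rw [← Nat.card_eq_fintype_card, Module.natCard_eq_pow_finrank (K := ZMod p), Nat.card_zmod]
    have e2 : Fintype.card K = p ^ Module.finrank (ZMod p) K := by
      rw [← Nat.card_eq_fintype_card, Module.natCard_eq_pow_finrank (K := ZMod p), Nat.card_zmod]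
    rw [← e1, ← e2, h]
  obtain ⟨f⟩ := FiniteField.nonempty_algHom_iff_finrank_dvd.2 hd
  exact ⟨f.toRingHom⟩

theorem exists_psl_mono (ι : K →+* F) :
    ∃ φ : ProjectiveSpecialLinearGroup (Fin 2) K →* ProjectiveSpecialLinearGroup (Fin 2) F,
      Function.Injective φ := by
  classical
  let m : SL(2, K) →* SL(2, F) := SpecialLinearGroup.map ι
  have hinj : Function.Injective m := fun a b e => Subtype.ext (Matrix.map_injective ι.injective (congrArg Subtype.val e))
  have hneg : m (-1) = -1 := by
    apply sl2_ext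
    ext i j
    fin_cases i <;> fin_cases j <;> simp [m]
  have hle : Subgroup.center SL(2, K) ≤ (Subgroup.center SL(2, F)).comap m := by
    intro z hz
    show m z ∈ Subgroup.center SL(2, F)
    rcases sl2_center_eq hz with rfl | rfl
    · rw [map_one]; exact one_mem _
    · rw [hneg]; exact sl2_neg_one_central
  refine ⟨QuotientGroup.map _ _ m hle, ?_⟩
  rw [injective_iff_map_eq_one]
  intro a ha
  induction a using QuotientGroup.induction_on with
  | _ g =>
    rw [QuotientGroup.map_mk, QuotientGroup.eq_one_iff] at ha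
    rw [QuotientGroup.eq_one_iff, Subgroup.mem_center_iff]
    exact fun h => hinj (by rw [map_mul, map_mul]; exact Subgroup.mem_center_iff.1 ha (m h))

theorem card_psl2_four (hK : Fintype.card K = 4) : Nat.card (ProjectiveSpecialLinearGroup (Fin 2) K) = 60 := by
  have hc : Subgroup.center SL(2, K) = ⊥ := by
    rw [eq_bot_iff]
    intro z hz
    haveI : CharP K 2 := by
      obtain ⟨r, hr⟩ := CharP.exists K
      obtain ⟨b, hrp, hc⟩ := FiniteField.card K r
      have : r = 2 := (Nat.prime_dvd_prime_iff_eq hrp Nat.prime_two).1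
        (hrp.dvd_of_dvd_pow (n := 2) (by rw [show (2 : ℕ) ^ 2 = Fintype.card K from hK.symm, hc]; exact dvd_pow_self r b.ne_zero))
      exact this ▸ hr
    have e : (-1 : SL(2, K)) = 1 := sl2_ext (by ext i j; fin_cases i <;> fin_cases j <;> simp [CharTwo.neg_eq])
    rcases sl2_center_eq hz with rfl | rfl
    · exact Subgroup.mem_bot.2 rfl
    · exact Subgroup.mem_bot.2 e
  have h := Subgroup.card_eq_card_quotient_mul_card_subgroup (Subgroup.center SL(2, K))
  rw [hc, Subgroup.card_bot, mul_one, card_sl2', hK, ← hc] at h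
  exact h.symm

theorem psl2_four_equiv_alt (hK : Fintype.card K = 4) :
    Nonempty (ProjectiveSpecialLinearGroup (Fin 2) K ≃* alternatingGroup (Fin 5)) := by
  classical
  let φ : ProjectiveSpecialLinearGroup (Fin 2) K →* Equiv.Perm (OnePoint K) :=
    (MulAction.toPermHom (ProjGenLinGroup (Fin 2) K) (OnePoint K)).comp ProjectiveSpecialLinearGroup.toPGL
  have hφ : Function.Injective φ :=
    (MulAction.toPerm_injective (α := ProjGenLinGroup (Fin 2) K) (β := OnePoint K)).comp
      ProjectiveSpecialLinearGroup.toPGL_injective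
  haveI : Fintype (OnePoint K) := Fintype.ofFinite _
  have h5 : Fintype.card (OnePoint K) = 5 := by
    rw [← Nat.card_eq_fintype_card, Dickson.natCard_points, Nat.card_eq_fintype_card, hK]
  let e := (Fintype.equivFinOfCardEq h5).permCongrHom
  let ψ : ProjectiveSpecialLinearGroup (Fin 2) K →* Equiv.Perm (Fin 5) := e.toMonoidHom.comp φ
  have hψ : Function.Injective ψ := e.injective.comp hφ
  have hcard : Nat.card ψ.range = 60 := by
    rw [← card_psl2_four hK]
    exact Nat.card_congr (MonoidHom.ofInjective hψ).symm.toEquiv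
  have hidx : ψ.range.index = 2 := by
    have := ψ.range.index_mul_card
    rw [hcard, Nat.card_perm, Nat.card_fin] at this
    simp [Nat.factorial] at this
    omega
  exact ⟨(MonoidHom.ofInjective hψ).trans
    (MulEquiv.subgroupCongr (Equiv.Perm.eq_alternatingGroup_of_index_eq_two hidx))⟩

/-- `A₅` in `PSL₂(4^n)`. -/
theorem exists_a5_of_card_four_pow {n : ℕ} (hn : 1 ≤ n) (h : Fintype.card F = 4 ^ n) :
    ∃ φ : alternatingGroup (Fin 5) →* ProjectiveSpecialLinearGroup (Fin 2) F, Function.Injective φ := by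
  haveI : Fact (Nat.Prime 2) := ⟨Nat.prime_two⟩
  haveI : Fintype (GaloisField 2 2) := Fintype.ofFinite _
  have h4 : Fintype.card (GaloisField 2 2) = 4 := by
    rw [← Nat.card_eq_fintype_card, GaloisField.card 2 2 (by norm_num)]; norm_num
  obtain ⟨ι⟩ := exists_ringHom_of_card_pow (K := GaloisField 2 2) (F := F) hn (by rw [h4, h])
  obtain ⟨φ, hφ⟩ := exists_psl_mono ι
  obtain ⟨e⟩ := psl2_four_equiv_alt h4
  exact ⟨φ.comp e.symm.toMonoidHom, hφ.comp e.symm.injective⟩

theorem exists_s4_subgroup_iff_aux {G H : Type*} [Group G] [Group H] (φ : H →* G) (hφ : Function.Injective φ) :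
    ∃ W : Subgroup G, Nonempty (W ≃* H) :=
  ⟨φ.range, ⟨(MonoidHom.ofInjective hφ).symm⟩⟩

theorem exists_a4_of_a5 : ∃ φ : alternatingGroup (Fin 4) →* alternatingGroup (Fin 5), Function.Injective φ := by
  let ι : Equiv.Perm (Fin 4) →* Equiv.Perm (Fin 5) := Equiv.Perm.viaEmbeddingHom Fin.castSuccEmb
  have hι : Function.Injective ι := Equiv.Perm.viaEmbeddingHom_injective _
  have hs : ∀ σ : Equiv.Perm (Fin 4), Equiv.Perm.sign (ι σ) = Equiv.Perm.sign σ := fun σ => by
    show Equiv.Perm.sign (σ.viaEmbedding Fin.castSuccEmb) = _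
    unfold Equiv.Perm.viaEmbedding
    convert Equiv.Perm.sign_extendDomain σ (Equiv.ofInjective _ Fin.castSuccEmb.injective) <;> rfl
  refine ⟨(ι.comp (alternatingGroup (Fin 4)).subtype).codRestrict _ fun σ => ?_, fun a b e =>
    Subtype.ext (hι (congrArg Subtype.val e))⟩
  show Equiv.Perm.sign (ι σ.1) = 1
  rw [hs]; exact σ.2

theorem isSquare_neg_one_five : IsSquare (-1 : ZMod 5) := ⟨2, by decide⟩

theorem quadraticChar_five (a : ZMod 5) [Fact (Nat.Prime 5)] (ha : a = 1 ∨ a = -1) :
    quadraticChar (ZMod 5) a ≠ -1 := by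
  have h4 := isSquare_neg_one_five
  have hsq : IsSquare a := by
    rcases ha with rfl | rfl
    · exact IsSquare.one
    · exact h4
  rw [Ne, quadraticChar_neg_one_iff_not_isSquare, not_not]
  exact hsq

end CfsgLib.Classical.Quat
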