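import Cfsg.Agent.Lib.Classical.SL2Fours

/-!
# Finite quaternion tables in `PSL₂(q)`, `q` odd

A pair `X, Y` of anticommuting square roots of `-1` in `SL₂(F)` turns a table of integral
quaternions, closed under multiplication up to sign and scale, into a monomorphism of the
tabulated group into `PSL₂(F)`.
-/

set_option autoImplicit false
set_option linter.unusedSectionVars false
set_option backward.isDefEq.respectTransparency false

open Matrix
open scoped MatrixGroups

namespace CfsgLib.Classical.Quat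

/-- Quadruples of coefficients. -/
@[ext]
structure Quad (R : Type*) where
  w : R
  x : R
  y : R
  z : R
deriving DecidableEq

variable {R : Type*} [CommRing R]

/-- Hamilton's product. -/
def qmul (p q : Quad R) : Quad R :=
  ⟨p.w * q.w - p.x * q.x - p.y * q.y - p.z * q.z,
    p.w * q.x + p.x * q.w + p.y * q.z - p.z * q.y,
    p.w * q.y - p.x * q.z + p.y * q.w + p.z * q.x,
    p.w * q.z + p.x * q.y - p.y * q.x + p.z * q.w⟩

/-- Scaling. -/
def qscale (c : R) (p : Quad R) : Quad R := ⟨c * p.w, c * p.x, c * p.y, c * p.z⟩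

/-- Reduced norm. -/
def qnorm (p : Quad R) : R := p.w * p.w + p.x * p.x + p.y * p.y + p.z * p.z

variable {F : Type*} [Field F]

local notation "M2" => Matrix (Fin 2) (Fin 2) F

/-- An anticommuting pair of square roots of `-1`. -/
structure Pair (X Y : SL(2, F)) : Prop where
  hX : X * X = -1
  hY : Y * Y = -1
  hanti : Y * X = -(X * Y)

variable (f : R →+* F) {X Y : SL(2, F)}

/-- Evaluation of a quadruple at the pair. -/
def ev (X Y : SL(2, F)) (p : Quad R) : M2 :=
  f p.w • (1 : M2) + f p.x • (X : M2) + f p.y • (Y : M2) + f p.z • ((X : M2) * (Y : M2))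

theorem Pair.xx (h : Pair X Y) : (X : M2) * (X : M2) = -1 := by
  rw [← sl2_coe_mul, h.hX]; simp

theorem Pair.yy (h : Pair X Y) : (Y : M2) * (Y : M2) = -1 := by
  rw [← sl2_coe_mul, h.hY]; simp

theorem Pair.yx (h : Pair X Y) : (Y : M2) * (X : M2) = -((X : M2) * (Y : M2)) := by
  rw [← sl2_coe_mul, h.hanti]; simp

theorem Pair.x_xy (h : Pair X Y) : (X : M2) * ((X : M2) * (Y : M2)) = -(Y : M2) := by
  rw [← mul_assoc, h.xx, neg_one_mul]

theorem Pair.xy_y (h : Pair X Y) : (X : M2) * (Y : M2) * (Y : M2) = -(X : M2) := by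
  rw [mul_assoc, h.yy, mul_neg_one]

theorem Pair.xy_x (h : Pair X Y) : (X : M2) * (Y : M2) * (X : M2) = (Y : M2) := by
  rw [mul_assoc, h.yx, mul_neg, h.x_xy, neg_neg]

theorem Pair.y_xy (h : Pair X Y) : (Y : M2) * ((X : M2) * (Y : M2)) = (X : M2) := by
  rw [← mul_assoc, h.yx, neg_mul, h.xy_y, neg_neg]

theorem Pair.xy_xy (h : Pair X Y) : (X : M2) * (Y : M2) * ((X : M2) * (Y : M2)) = -1 := by
  rw [← mul_assoc, h.xy_x, h.yy]

theorem Pair.hXY (h : Pair X Y) : (X * Y) * (X * Y) = -1 :=
  sl2_ext (by rw [sl2_coe_mul, sl2_coe_mul, h.xy_xy]; simp)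

theorem ev_mul (h : Pair X Y) (p q : Quad R) : ev f X Y p * ev f X Y q = ev f X Y (qmul p q) := by
  simp only [ev, qmul, add_mul, mul_add, smul_mul_smul_comm, one_mul, mul_one, h.xx, h.yy, h.yx,
    h.x_xy, h.xy_y, h.xy_x, h.y_xy, h.xy_xy, map_add, map_sub, map_mul]
  module

theorem ev_scale (c : R) (p : Quad R) : ev f X Y (qscale c p) = f c • ev f X Y p := by
  simp only [ev, qscale, map_mul, smul_add, smul_smul]

theorem Pair.tr_x (h : Pair X Y) : (X : M2).trace = 0 := (sl2_mul_self_eq_neg_one_iff X).1 h.hX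

theorem Pair.tr_y (h : Pair X Y) : (Y : M2).trace = 0 := (sl2_mul_self_eq_neg_one_iff Y).1 h.hY

theorem Pair.tr_xy (h : Pair X Y) : ((X : M2) * (Y : M2)).trace = 0 := by
  rw [← sl2_coe_mul]; exact (sl2_mul_self_eq_neg_one_iff _).1 h.hXY

theorem ev_det (h : Pair X Y) (p : Quad R) : (ev f X Y p).det = f (qnorm p) := by
  have hadj : (ev f X Y p).adjugate = ev f X Y ⟨p.w, -p.x, -p.y, -p.z⟩ := by
    have e : ∀ M : M2, M.adjugate = M.trace • (1 : M2) - M := by
      intro M
      rw [adjugate_fin_two]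
      ext i j
      fin_cases i <;> fin_cases j <;> simp [trace_fin_two]
    rw [e, show (ev f X Y p).trace = 2 * f p.w by
      simp only [ev, trace_add, trace_smul, h.tr_x, h.tr_y, h.tr_xy, trace_one, Fintype.card_fin]
      simp; ring]
    simp only [ev, map_neg]
    module
  have e := mul_adjugate (ev f X Y p)
  rw [hadj, ev_mul f h] at e
  have hq : qmul p ⟨p.w, -p.x, -p.y, -p.z⟩ = ⟨qnorm p, 0, 0, 0⟩ := by
    unfold qmul qnorm; ext <;> simp <;> ring
  rw [hq] at e
  have e' := congrArg (fun M : M2 => M 0 0) e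
  simpa [ev] using e'.symm

/-- The trace pairing recovers the coefficients. -/
theorem coeff_of_eq_scalar (h : Pair X Y) (a b c d e : F)
    (he : a • (1 : M2) + b • (X : M2) + c • (Y : M2) + d • ((X : M2) * (Y : M2)) = e • (1 : M2)) :
    2 * b = 0 ∧ 2 * c = 0 ∧ 2 * d = 0 := by
  have h1 := congrArg (fun M : M2 => (M * (X : M2)).trace) he
  have h2 := congrArg (fun M : M2 => (M * (Y : M2)).trace) he
  have h3 := congrArg (fun M : M2 => (M * ((X : M2) * (Y : M2))).trace) he
  simp only [add_mul, smul_mul_assoc, one_mul, h.xx, h.yy, h.yx, h.xy_x, h.xy_y, h.x_xy, h.y_xy,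
    h.xy_xy, trace_add, trace_smul, trace_neg, h.tr_x, h.tr_y, h.tr_xy, trace_one, Fintype.card_fin]
    at h1 h2 h3
  simp at h1 h2 h3
  refine ⟨?_, ?_, ?_⟩
  · grind
  · grind
  · grind

end CfsgLib.Classical.Quat
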