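import Cfsg.Agent.Lib.Classical.Quat.Table
import Mathlib.GroupTheory.SpecificGroups.Alternating

/-!
# The tables of `A₄`, `S₄` and `A₅`
-/

set_option autoImplicit false
set_option maxRecDepth 100000

namespace CfsgLib.Classical.Quat

def fwdA4 (i : Fin 12) : Fin 4 → Fin 4 := fun x =>
  (([[0, 1, 2, 3], [0, 3, 1, 2], [3, 2, 1, 0], [0, 2, 3, 1], [2, 1, 3, 0], [3, 0, 2, 1], [1, 3, 2, 0], [2, 0, 1, 3], [3, 1, 0, 2], [1, 2, 0, 3], [1, 0, 3, 2], [2, 3, 0, 1]] : List (List (Fin 4))).getD i []).getD x 0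

def bwdA4 (i : Fin 12) : Fin 4 → Fin 4 := fun x =>
  (([[0, 1, 2, 3], [0, 2, 3, 1], [3, 2, 1, 0], [0, 3, 1, 2], [3, 1, 0, 2], [1, 3, 2, 0], [3, 0, 2, 1], [1, 2, 0, 3], [2, 1, 3, 0], [2, 0, 1, 3], [1, 0, 3, 2], [2, 3, 0, 1]] : List (List (Fin 4))).getD i []).getD x 0

theorem bwd_fwdA4 : ∀ i x, bwdA4 i (fwdA4 i x) = x ∧ fwdA4 i (bwdA4 i x) = x := by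
  decide +kernel

def permA4 (i : Fin 12) : Equiv.Perm (Fin 4) :=
  ⟨fwdA4 i, bwdA4 i, fun x => (bwd_fwdA4 i x).1, fun x => (bwd_fwdA4 i x).2⟩

theorem permA4_injective : Function.Injective permA4 := by
  have h : Function.Injective fwdA4 := by
    unfold Function.Injective
    decide +kernel
  intro a b e
  exact h (congrArg (fun σ : Equiv.Perm (Fin 4) => (σ : Fin 4 → Fin 4)) e)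

theorem permA4_mem (i : Fin 12) : permA4 i ∈ alternatingGroup (Fin 4) := by
  have h : ∀ j, Equiv.Perm.sign (permA4 j) = 1 := by decide +kernel
  exact h i

def quatA4 : Fin 12 → Quad (Zsqrtd 1) := fun i =>
  ([⟨⟨2, 0⟩, ⟨0, 0⟩, ⟨0, 0⟩, ⟨0, 0⟩⟩,
    ⟨⟨1, 0⟩, ⟨1, 0⟩, ⟨1, 0⟩, ⟨1, 0⟩⟩,
    ⟨⟨0, 0⟩, ⟨2, 0⟩, ⟨0, 0⟩, ⟨0, 0⟩⟩,
    ⟨⟨-1, 0⟩, ⟨1, 0⟩, ⟨1, 0⟩, ⟨1, 0⟩⟩,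
    ⟨⟨-1, 0⟩, ⟨1, 0⟩, ⟨1, 0⟩, ⟨-1, 0⟩⟩,
    ⟨⟨-1, 0⟩, ⟨1, 0⟩, ⟨-1, 0⟩, ⟨1, 0⟩⟩,
    ⟨⟨-1, 0⟩, ⟨-1, 0⟩, ⟨1, 0⟩, ⟨-1, 0⟩⟩,
    ⟨⟨-1, 0⟩, ⟨1, 0⟩, ⟨-1, 0⟩, ⟨-1, 0⟩⟩,
    ⟨⟨-1, 0⟩, ⟨-1, 0⟩, ⟨-1, 0⟩, ⟨1, 0⟩⟩,
    ⟨⟨-1, 0⟩, ⟨-1, 0⟩, ⟨1, 0⟩, ⟨1, 0⟩⟩,
    ⟨⟨0, 0⟩, ⟨0, 0⟩, ⟨0, 0⟩, ⟨-2, 0⟩⟩,
    ⟨⟨0, 0⟩, ⟨0, 0⟩, ⟨-2, 0⟩, ⟨0, 0⟩⟩] : List (Quad (Zsqrtd 1))).getD i ⟨0, 0, 0, 0⟩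

def genA4 : Fin 2 → Fin 12 := ![1, 2]

def stepA4 (j : Fin 2) (i : Fin 12) : Fin 12 :=
  (![([1, 3, 5, 0, 7, 8, 10, 11, 2, 6, 9, 4] : List (Fin 12)), [2, 4, 0, 6, 1, 9, 3, 8, 7, 5, 11, 10]] j).getD i 0

def prevA4 (i : Fin 12) : Fin 12 × Fin 2 :=
  ([(0, 0), (0, 0), (0, 1), (1, 0), (1, 1), (2, 0), (3, 1), (4, 0), (5, 0), (5, 1), (6, 0), (7, 0)] : List (Fin 12 × Fin 2)).getD i (0, 0)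

theorem hPA4 : ∀ j i x, fwdA4 i (fwdA4 (genA4 j) x) = fwdA4 (stepA4 j i) x := by
  decide +kernel

/-- The table of the group `A4`. -/
def tableA4 : Table (alternatingGroup (Fin 4)) 1 2 11 where
  P := fun i => ⟨permA4 i, permA4_mem i⟩
  bij := (Fintype.bijective_iff_injective_and_card _).2 ⟨fun a b e => permA4_injective (congrArg Subtype.val e), by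
    rw [card_alternatingGroup]; decide⟩
  T := quatA4
  G := genA4
  R := stepA4
  par := prevA4
  P_zero := Subtype.ext (Equiv.ext (by decide +kernel))
  T_zero := by decide +kernel
  hP := fun j i => Subtype.ext (Equiv.ext (hPA4 j i))
  hT := by decide +kernel
  hpar := by decide +kernel
  hnorm := by decide +kernel
  hunit := by decide +kernel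

def fwdS4 (i : Fin 24) : Fin 4 → Fin 4 := fun x =>
  (([[0, 1, 2, 3], [0, 3, 1, 2], [2, 0, 3, 1], [0, 2, 3, 1], [1, 0, 2, 3], [2, 1, 0, 3], [3, 2, 1, 0], [3, 0, 1, 2], [1, 3, 0, 2], [2, 1, 3, 0], [2, 3, 1, 0], [3, 0, 2, 1], [3, 2, 0, 1], [1, 3, 2, 0], [1, 2, 3, 0], [2, 0, 1, 3], [1, 2, 0, 3], [3, 1, 0, 2], [3, 1, 2, 0], [1, 0, 3, 2], [2, 3, 0, 1], [0, 1, 3, 2], [0, 3, 2, 1], [0, 2, 1, 3]] : List (List (Fin 4))).getD i []).getD x 0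

def bwdS4 (i : Fin 24) : Fin 4 → Fin 4 := fun x =>
  (([[0, 1, 2, 3], [0, 2, 3, 1], [1, 3, 0, 2], [0, 3, 1, 2], [1, 0, 2, 3], [2, 1, 0, 3], [3, 2, 1, 0], [1, 2, 3, 0], [2, 0, 3, 1], [3, 1, 0, 2], [3, 2, 0, 1], [1, 3, 2, 0], [2, 3, 1, 0], [3, 0, 2, 1], [3, 0, 1, 2], [1, 2, 0, 3], [2, 0, 1, 3], [2, 1, 3, 0], [3, 1, 2, 0], [1, 0, 3, 2], [2, 3, 0, 1], [0, 1, 3, 2], [0, 3, 2, 1], [0, 2, 1, 3]] : List (List (Fin 4))).getD i []).getD x 0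

theorem bwd_fwdS4 : ∀ i x, bwdS4 i (fwdS4 i x) = x ∧ fwdS4 i (bwdS4 i x) = x := by
  decide +kernel

def permS4 (i : Fin 24) : Equiv.Perm (Fin 4) :=
  ⟨fwdS4 i, bwdS4 i, fun x => (bwd_fwdS4 i x).1, fun x => (bwd_fwdS4 i x).2⟩

theorem permS4_injective : Function.Injective permS4 := by
  have h : Function.Injective fwdS4 := by
    unfold Function.Injective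
    decide +kernel
  intro a b e
  exact h (congrArg (fun σ : Equiv.Perm (Fin 4) => (σ : Fin 4 → Fin 4)) e)

def quatS4 : Fin 24 → Quad (Zsqrtd 2) := fun i =>
  ([⟨⟨2, 0⟩, ⟨0, 0⟩, ⟨0, 0⟩, ⟨0, 0⟩⟩,
    ⟨⟨1, 0⟩, ⟨1, 0⟩, ⟨1, 0⟩, ⟨1, 0⟩⟩,
    ⟨⟨0, 1⟩, ⟨0, 1⟩, ⟨0, 0⟩, ⟨0, 0⟩⟩,
    ⟨⟨-1, 0⟩, ⟨1, 0⟩, ⟨1, 0⟩, ⟨1, 0⟩⟩,
    ⟨⟨0, 0⟩, ⟨0, 1⟩, ⟨0, 1⟩, ⟨0, 0⟩⟩,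
    ⟨⟨0, 0⟩, ⟨0, 1⟩, ⟨0, 0⟩, ⟨0, 1⟩⟩,
    ⟨⟨0, 0⟩, ⟨2, 0⟩, ⟨0, 0⟩, ⟨0, 0⟩⟩,
    ⟨⟨0, -1⟩, ⟨0, 0⟩, ⟨0, 1⟩, ⟨0, 0⟩⟩,
    ⟨⟨0, -1⟩, ⟨0, 1⟩, ⟨0, 0⟩, ⟨0, 0⟩⟩,
    ⟨⟨-1, 0⟩, ⟨1, 0⟩, ⟨1, 0⟩, ⟨-1, 0⟩⟩,
    ⟨⟨0, -1⟩, ⟨0, 0⟩, ⟨0, 0⟩, ⟨0, 1⟩⟩,
    ⟨⟨-1, 0⟩, ⟨1, 0⟩, ⟨-1, 0⟩, ⟨1, 0⟩⟩,
    ⟨⟨0, -1⟩, ⟨0, 0⟩, ⟨0, 0⟩, ⟨0, -1⟩⟩,
    ⟨⟨-1, 0⟩, ⟨-1, 0⟩, ⟨1, 0⟩, ⟨-1, 0⟩⟩,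
    ⟨⟨0, -1⟩, ⟨0, 0⟩, ⟨0, -1⟩, ⟨0, 0⟩⟩,
    ⟨⟨-1, 0⟩, ⟨1, 0⟩, ⟨-1, 0⟩, ⟨-1, 0⟩⟩,
    ⟨⟨-1, 0⟩, ⟨-1, 0⟩, ⟨1, 0⟩, ⟨1, 0⟩⟩,
    ⟨⟨-1, 0⟩, ⟨-1, 0⟩, ⟨-1, 0⟩, ⟨1, 0⟩⟩,
    ⟨⟨0, 0⟩, ⟨0, 0⟩, ⟨0, -1⟩, ⟨0, -1⟩⟩,
    ⟨⟨0, 0⟩, ⟨0, 0⟩, ⟨0, 0⟩, ⟨-2, 0⟩⟩,
    ⟨⟨0, 0⟩, ⟨0, 0⟩, ⟨-2, 0⟩, ⟨0, 0⟩⟩,
    ⟨⟨0, 0⟩, ⟨0, -1⟩, ⟨0, 1⟩, ⟨0, 0⟩⟩,
    ⟨⟨0, 0⟩, ⟨0, -1⟩, ⟨0, 0⟩, ⟨0, 1⟩⟩,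
    ⟨⟨0, 0⟩, ⟨0, 0⟩, ⟨0, -1⟩, ⟨0, 1⟩⟩] : List (Quad (Zsqrtd 2))).getD i ⟨0, 0, 0, 0⟩

def genS4 : Fin 2 → Fin 24 := ![1, 2]

def stepS4 (j : Fin 2) (i : Fin 24) : Fin 24 :=
  (![([1, 3, 5, 0, 8, 10, 11, 12, 14, 15, 2, 17, 18, 19, 4, 20, 13, 6, 7, 16, 9, 23, 21, 22] : List (Fin 24)), [2, 4, 6, 7, 9, 3, 8, 13, 0, 12, 16, 10, 1, 5, 17, 14, 21, 22, 20, 18, 23, 11, 15, 19]] j).getD i 0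

def prevS4 (i : Fin 24) : Fin 24 × Fin 2 :=
  ([(0, 0), (0, 0), (0, 1), (1, 0), (1, 1), (2, 0), (2, 1), (3, 1), (4, 0), (4, 1), (5, 0), (6, 0), (7, 0), (7, 1), (8, 0), (9, 0), (10, 1), (11, 0), (12, 0), (13, 0), (15, 0), (16, 1), (17, 1), (20, 1)] : List (Fin 24 × Fin 2)).getD i (0, 0)

theorem hPS4 : ∀ j i x, fwdS4 i (fwdS4 (genS4 j) x) = fwdS4 (stepS4 j i) x := by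
  decide +kernel

/-- The table of the group `S4`. -/
def tableS4 : Table (Equiv.Perm (Fin 4)) 2 2 23 where
  P := permS4
  bij := (Fintype.bijective_iff_injective_and_card _).2 ⟨permS4_injective, by
    rw [Fintype.card_perm]; decide⟩
  T := quatS4
  G := genS4
  R := stepS4
  par := prevS4
  P_zero := Equiv.ext (by decide +kernel)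
  T_zero := by decide +kernel
  hP := fun j i => Equiv.ext (hPS4 j i)
  hT := by decide +kernel
  hpar := by decide +kernel
  hnorm := by decide +kernel
  hunit := by decide +kernel

def fwdA5 (i : Fin 60) : Fin 5 → Fin 5 := fun x =>
  (([[0, 1, 2, 3, 4], [0, 4, 2, 1, 3], [1, 2, 3, 4, 0], [0, 3, 2, 4, 1], [4, 2, 1, 3, 0], [1, 0, 3, 2, 4], [2, 3, 4, 0, 1], [3, 2, 4, 1, 0], [4, 0, 1, 2, 3], [2, 1, 3, 0, 4], [1, 4, 3, 0, 2], [2, 1, 4, 3, 0], [3, 4, 0, 1, 2], [3, 0, 4, 2, 1], [2, 4, 1, 0, 3], [4, 3, 1, 0, 2], [2, 4, 3, 1, 0], [1, 3, 0, 4, 2], [4, 3, 0, 2, 1], [2, 0, 4, 1, 3], [3, 2, 0, 4, 1], [3, 1, 4, 0, 2], [2, 3, 1, 4, 0], [4, 1, 0, 3, 2], [3, 1, 0, 2,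 4], [2, 0, 3, 4, 1], [1, 2, 0, 3, 4], [3, 0, 2, 1, 4], [0, 4, 1, 3, 2], [1, 4, 0, 2, 3], [2, 0, 1, 3, 4], [4, 2, 0, 1, 3], [1, 0, 2, 4, 3], [0, 3, 4, 1, 2], [3, 4, 2, 0, 1], [0, 2, 1, 4, 3], [4, 1, 3, 2, 0], [4, 0, 2, 3, 1], [0, 1, 3, 4, 2], [1, 3, 2, 0, 4], [0, 2, 4, 3, 1], [3, 4, 1, 2, 0], [3, 1, 2, 4, 0], [0, 3, 1, 2, 4], [4, 0, 3, 1, 2], [4, 1, 2, 0, 3], [0, 2, 3, 1, 4], [1, 3, 4, 2, 0], [1, 4, 2, 3, 0], [0, 1, 4, 2, 3], [3, 0, 1, 4, 2], [1, 2, 4, 0, 3], [4, 2, 3, 0, 1], [4, 3, 2, 1, 0], [0, 4, 3, 2, 1], [1, 0, 4, 3, 2], [3, 2, 1, 0, 4], [2, 4, 0, 3, 1], [2, 3, 0, 1, 4], [2, 1, 0, 4, 3]] : List (List (Fin 5))).getD i []).getD x 0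

def bwdA5 (i : Fin 60) : Fin 5 → Fin 5 := fun x =>
  (([[0, 1, 2, 3, 4], [0, 3, 2, 4, 1], [4, 0, 1, 2, 3], [0, 4, 2, 1, 3], [4, 2, 1, 3, 0], [1, 0, 3, 2, 4], [3, 4, 0, 1, 2], [4, 3, 1, 0, 2], [1, 2, 3, 4, 0], [3, 1, 0, 2, 4], [3, 0, 4, 2, 1], [4, 1, 0, 3, 2], [2, 3, 4, 0, 1], [1, 4, 3, 0, 2], [3, 2, 0, 4, 1], [3, 2, 4, 1, 0], [4, 3, 0, 2, 1], [2, 0, 4, 1, 3], [2, 4, 3, 1, 0], [1, 3, 0, 4, 2], [2, 4, 1, 0, 3], [3, 1, 4, 0, 2], [4, 2, 0, 1, 3], [2, 1, 4, 3, 0], [2, 1, 3, 0, 4], [1, 4, 0, 2, 3], [2, 0, 1, 3, 4], [1, 3, 2, 0, 4], [0, 2, 4, 3, 1], [2, 0, 3, 4, 1], [1, 2, 0, 3, 4], [2, 3, 1, 4, 0], [1, 0, 2, 4, 3], [0, 3, 4, 1, 2], [3, 4, 2, 0, 1], [0, 2, 1,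 4, 3], [4, 1, 3, 2, 0], [1, 4, 2, 3, 0], [0, 1, 4, 2, 3], [3, 0, 2, 1, 4], [0, 4, 1, 3, 2], [4, 2, 3, 0, 1], [4, 1, 2, 0, 3], [0, 2, 3, 1, 4], [1, 3, 4, 2, 0], [3, 1, 2, 4, 0], [0, 3, 1, 2, 4], [4, 0, 3, 1, 2], [4, 0, 2, 3, 1], [0, 1, 3, 4, 2], [1, 2, 4, 0, 3], [3, 0, 1, 4, 2], [3, 4, 1, 2, 0], [4, 3, 2, 1, 0], [0, 4, 3, 2, 1], [1, 0, 4, 3, 2], [3, 2, 1, 0, 4], [2, 4, 0, 3, 1], [2, 3, 0, 1, 4], [2, 1, 0, 4, 3]] : List (List (Fin 5))).getD i []).getD x 0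

theorem bwd_fwdA5 : ∀ i x, bwdA5 i (fwdA5 i x) = x ∧ fwdA5 i (bwdA5 i x) = x := by
  decide +kernel

def permA5 (i : Fin 60) : Equiv.Perm (Fin 5) :=
  ⟨fwdA5 i, bwdA5 i, fun x => (bwd_fwdA5 i x).1, fun x => (bwd_fwdA5 i x).2⟩

theorem permA5_injective : Function.Injective permA5 := by
  have h : Function.Injective fwdA5 := by
    unfold Function.Injective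
    decide +kernel
  intro a b e
  exact h (congrArg (fun σ : Equiv.Perm (Fin 5) => (σ : Fin 5 → Fin 5)) e)

theorem permA5_mem (i : Fin 60) : permA5 i ∈ alternatingGroup (Fin 5) := by
  have h : ∀ j, Equiv.Perm.sign (permA5 j) = 1 := by decide +kernel
  exact h i

def quatA5 : Fin 60 → Quad (Zsqrtd 5) := fun i =>
  ([⟨⟨4, 0⟩, ⟨0, 0⟩, ⟨0, 0⟩, ⟨0, 0⟩⟩,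
    ⟨⟨2, 0⟩, ⟨2, 0⟩, ⟨2, 0⟩, ⟨2, 0⟩⟩,
    ⟨⟨1, 1⟩, ⟨2, 0⟩, ⟨-1, 1⟩, ⟨0, 0⟩⟩,
    ⟨⟨-2, 0⟩, ⟨2, 0⟩, ⟨2, 0⟩, ⟨2, 0⟩⟩,
    ⟨⟨0, 0⟩, ⟨2, 0⟩, ⟨1, 1⟩, ⟨-1, 1⟩⟩,
    ⟨⟨0, 0⟩, ⟨1, 1⟩, ⟨-1, 1⟩, ⟨2, 0⟩⟩,
    ⟨⟨-1, 1⟩, ⟨1, 1⟩, ⟨2, 0⟩, ⟨0, 0⟩⟩,
    ⟨⟨-1, -1⟩, ⟨0, 0⟩, ⟨2, 0⟩, ⟨-1, 1⟩⟩,
    ⟨⟨-1, -1⟩, ⟨2, 0⟩, ⟨-1, 1⟩, ⟨0, 0⟩⟩,
    ⟨⟨-2, 0⟩, ⟨-1, 1⟩, ⟨1, 1⟩, ⟨0, 0⟩⟩,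
    ⟨⟨-1, -1⟩, ⟨-1, 1⟩, ⟨0, 0⟩, ⟨2, 0⟩⟩,
    ⟨⟨-2, 0⟩, ⟨1, 1⟩, ⟨0, 0⟩, ⟨-1, 1⟩⟩,
    ⟨⟨1, -1⟩, ⟨1, 1⟩, ⟨2, 0⟩, ⟨0, 0⟩⟩,
    ⟨⟨-1, -1⟩, ⟨1, -1⟩, ⟨0, 0⟩, ⟨-2, 0⟩⟩,
    ⟨⟨-1, -1⟩, ⟨-2, 0⟩, ⟨-1, 1⟩, ⟨0, 0⟩⟩,
    ⟨⟨-1, -1⟩, ⟨0, 0⟩, ⟨-2, 0⟩, ⟨1, -1⟩⟩,
    ⟨⟨-1, -1⟩, ⟨-1, 1⟩, ⟨0, 0⟩, ⟨-2, 0⟩⟩,
    ⟨⟨-1, -1⟩, ⟨0, 0⟩, ⟨2, 0⟩, ⟨1, -1⟩⟩,
    ⟨⟨-1, -1⟩, ⟨1, -1⟩, ⟨0, 0⟩, ⟨2, 0⟩⟩,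
    ⟨⟨-1, -1⟩, ⟨0, 0⟩, ⟨-2, 0⟩, ⟨-1, 1⟩⟩,
    ⟨⟨-1, -1⟩, ⟨2, 0⟩, ⟨1, -1⟩, ⟨0, 0⟩⟩,
    ⟨⟨0, 0⟩, ⟨1, -1⟩, ⟨-2, 0⟩, ⟨-1, -1⟩⟩,
    ⟨⟨1, -1⟩, ⟨-2, 0⟩, ⟨0, 0⟩, ⟨-1, -1⟩⟩,
    ⟨⟨-2, 0⟩, ⟨-1, -1⟩, ⟨0, 0⟩, ⟨1, -1⟩⟩,
    ⟨⟨-2, 0⟩, ⟨1, -1⟩, ⟨-1, -1⟩, ⟨0, 0⟩⟩,
    ⟨⟨1, -1⟩, ⟨0, 0⟩, ⟨-1, -1⟩, ⟨-2, 0⟩⟩,
    ⟨⟨-2, 0⟩, ⟨0, 0⟩, ⟨1, -1⟩, ⟨-1, -1⟩⟩,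
    ⟨⟨-2, 0⟩, ⟨-1, -1⟩, ⟨0, 0⟩, ⟨-1, 1⟩⟩,
    ⟨⟨-2, 0⟩, ⟨-2, 0⟩, ⟨-2, 0⟩, ⟨2, 0⟩⟩,
    ⟨⟨-1, 1⟩, ⟨0, 0⟩, ⟨-1, -1⟩, ⟨-2, 0⟩⟩,
    ⟨⟨2, 0⟩, ⟨0, 0⟩, ⟨1, -1⟩, ⟨-1, -1⟩⟩,
    ⟨⟨-1, 1⟩, ⟨-2, 0⟩, ⟨0, 0⟩, ⟨-1, -1⟩⟩,
    ⟨⟨0, 0⟩, ⟨-2, 0⟩, ⟨-1, -1⟩, ⟨-1, 1⟩⟩,
    ⟨⟨0, 0⟩, ⟨0, 0⟩, ⟨-4, 0⟩, ⟨0, 0⟩⟩,
    ⟨⟨0, 0⟩, ⟨-1, -1⟩, ⟨-1, 1⟩, ⟨-2, 0⟩⟩,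
    ⟨⟨0, 0⟩, ⟨-4, 0⟩, ⟨0, 0⟩, ⟨0, 0⟩⟩,
    ⟨⟨0, 0⟩, ⟨-1, -1⟩, ⟨1, -1⟩, ⟨2, 0⟩⟩,
    ⟨⟨2, 0⟩, ⟨-1, 1⟩, ⟨-1, -1⟩, ⟨0, 0⟩⟩,
    ⟨⟨2, 0⟩, ⟨2, 0⟩, ⟨-2, 0⟩, ⟨-2, 0⟩⟩,
    ⟨⟨2, 0⟩, ⟨-1, -1⟩, ⟨0, 0⟩, ⟨-1, 1⟩⟩,
    ⟨⟨2, 0⟩, ⟨-2, 0⟩, ⟨-2, 0⟩, ⟨2, 0⟩⟩,
    ⟨⟨-1, 1⟩, ⟨0, 0⟩, ⟨-1, -1⟩, ⟨2, 0⟩⟩,
    ⟨⟨2, 0⟩, ⟨0, 0⟩, ⟨-1, 1⟩, ⟨-1, -1⟩⟩,
    ⟨⟨2, 0⟩, ⟨-2, 0⟩, ⟨2, 0⟩, ⟨-2, 0⟩⟩,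
    ⟨⟨-1, 1⟩, ⟨-1, -1⟩, ⟨2, 0⟩, ⟨0, 0⟩⟩,
    ⟨⟨2, 0⟩, ⟨0, 0⟩, ⟨1, -1⟩, ⟨1, 1⟩⟩,
    ⟨⟨2, 0⟩, ⟨2, 0⟩, ⟨-2, 0⟩, ⟨2, 0⟩⟩,
    ⟨⟨-1, 1⟩, ⟨1, 1⟩, ⟨-2, 0⟩, ⟨0, 0⟩⟩,
    ⟨⟨2, 0⟩, ⟨1, -1⟩, ⟨1, 1⟩, ⟨0, 0⟩⟩,
    ⟨⟨2, 0⟩, ⟨-2, 0⟩, ⟨2, 0⟩, ⟨2, 0⟩⟩,
    ⟨⟨-1, 1⟩, ⟨-2, 0⟩, ⟨0, 0⟩, ⟨1, 1⟩⟩,
    ⟨⟨-1, 1⟩, ⟨2, 0⟩, ⟨0, 0⟩, ⟨-1, -1⟩⟩,
    ⟨⟨-1, 1⟩, ⟨0, 0⟩, ⟨1, 1⟩, ⟨-2, 0⟩⟩,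
    ⟨⟨0, 0⟩, ⟨1, -1⟩, ⟨2, 0⟩, ⟨1, 1⟩⟩,
    ⟨⟨0, 0⟩, ⟨0, 0⟩, ⟨0, 0⟩, ⟨4, 0⟩⟩,
    ⟨⟨0, 0⟩, ⟨-1, 1⟩, ⟨-2, 0⟩, ⟨1, 1⟩⟩,
    ⟨⟨0, 0⟩, ⟨-2, 0⟩, ⟨1, 1⟩, ⟨-1, 1⟩⟩,
    ⟨⟨0, 0⟩, ⟨1, 1⟩, ⟨1, -1⟩, ⟨-2, 0⟩⟩,
    ⟨⟨0, 0⟩, ⟨-1, 1⟩, ⟨2, 0⟩, ⟨-1, -1⟩⟩,
    ⟨⟨0, 0⟩, ⟨-2, 0⟩, ⟨1, 1⟩, ⟨1, -1⟩⟩] : List (Quad (Zsqrtd 5))).getD i ⟨0, 0, 0, 0⟩

def genA5 : Fin 2 → Fin 60 := ![1, 2]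

def stepA5 (j : Fin 2) (i : Fin 60) : Fin 60 :=
  (![([1, 3, 5, 0, 8, 10, 11, 13, 15, 16, 2, 19, 20, 21, 22, 4, 25, 26, 23, 6, 24, 7, 30, 31, 12, 9, 29, 34, 35, 17, 14, 18, 39, 40, 42, 43, 44, 45, 46, 48, 49, 50, 27, 28, 52, 53, 54, 55, 32, 33, 56, 47, 36, 37, 38, 51, 41, 59, 57, 58] : List (Fin 60)), [2, 4, 6, 7, 9, 3, 12, 14, 0, 17, 18, 10, 8, 1, 23, 24, 15, 13, 27, 28, 19, 29, 21, 5, 32, 33, 25, 35, 36, 37, 38, 30, 40, 41, 31, 11, 39, 46, 47, 20, 16, 45, 51, 42, 43, 26, 22, 34, 52, 48, 49, 57, 58, 56, 53, 54, 59, 44, 50, 55]] j).getD i 0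

def prevA5 (i : Fin 60) : Fin 60 × Fin 2 :=
  ([(0, 0), (0, 0), (0, 1), (1, 0), (1, 1), (2, 0), (2, 1), (3, 1), (4, 0), (4, 1), (5, 0), (6, 0), (6, 1), (7, 0), (7, 1), (8, 0), (9, 0), (9, 1), (10, 1), (11, 0), (12, 0), (13, 0), (14, 0), (14, 1), (15, 1), (16, 0), (17, 0), (18, 1), (19, 1), (21, 1), (22, 0), (23, 0), (24, 1), (25, 1), (27, 0), (27, 1), (28, 1), (29, 1), (30, 1), (32, 0), (32, 1), (33, 1), (34, 0), (35, 0), (36, 0), (37, 0), (37, 1), (38, 1), (39, 0), (40, 0), (41, 0), (42, 1), (44, 0), (45, 0), (46, 0), (47, 0), (50, 0), (51, 1), (52, 1), (56, 1)] : List (Fin 60 × Fin 2)).getD i (0, 0)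

theorem hPA5 : ∀ j i x, fwdA5 i (fwdA5 (genA5 j) x) = fwdA5 (stepA5 j i) x := by
  decide +kernel

/-- The table of the group `A5`. -/
def tableA5 : Table (alternatingGroup (Fin 5)) 5 4 59 where
  P := fun i => ⟨permA5 i, permA5_mem i⟩
  bij := (Fintype.bijective_iff_injective_and_card _).2 ⟨fun a b e => permA5_injective (congrArg Subtype.val e), by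
    rw [card_alternatingGroup]; decide⟩
  T := quatA5
  G := genA5
  R := stepA5
  par := prevA5
  P_zero := Subtype.ext (Equiv.ext (by decide +kernel))
  T_zero := by decide +kernel
  hP := fun j i => Subtype.ext (Equiv.ext (hPA5 j i))
  hT := by decide +kernel
  hpar := by decide +kernel
  hnorm := by decide +kernel
  hunit := by decide +kernel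

end CfsgLib.Classical.Quat
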