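import Cfsg.Agent.Lib.Classical.Quat.Data
import Mathlib.GroupTheory.SpecificGroups.KleinFour

/-!
# Four-groups of `PSL₂(q)`, `q` odd
-/

set_option autoImplicit false
set_option linter.unusedSectionVars false
set_option backward.isDefEq.respectTransparency false

open Matrix
open scoped MatrixGroups

namespace CfsgLib.Classical.Quat

section Group

variable {G : Type*} [Group G]

/-- The subgroup `{1, a, b, ab}` of two commuting involutions. -/
def kv (a b : G) (ha : a * a = 1) (hb : b * b = 1) (hab : a * b = b * a) : Subgroup G where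
  carrier := {x | x = 1 ∨ x = a ∨ x = b ∨ x = a * b}
  one_mem' := Or.inl rfl
  mul_mem' := by
    have h1 : a * (a * b) = b := by rw [← mul_assoc, ha, one_mul]
    have h2 : b * a = a * b := hab.symm
    have h3 : a * b * a = b := by rw [mul_assoc, h2, h1]
    have h4 : a * b * b = a := by rw [mul_assoc, hb, mul_one]
    have h5 : b * (a * b) = a := by rw [← mul_assoc, h2, h4]
    have h6 : a * b * (a * b) = 1 := by rw [← mul_assoc, h3, hb]
    rintro x y (rfl | rfl | rfl | rfl) (rfl | rfl | rfl | rfl) <;>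
      simp [ha, hb, h1, h2, h3, h4, h5, h6]
  inv_mem' := by
    have hA : a⁻¹ = a := inv_eq_of_mul_eq_one_right ha
    have hB : b⁻¹ = b := inv_eq_of_mul_eq_one_right hb
    rintro x (rfl | rfl | rfl | rfl)
    · simp
    · simp [hA]
    · simp [hB]
    · simp [_root_.mul_inv_rev, hA, hB, ← hab]

theorem card_kv_eq {a b : G} {ha : a * a = 1} {hb : b * b = 1} {hab : a * b = b * a}
    (a1 : a ≠ 1) (b1 : b ≠ 1) (ne : a ≠ b) : Nat.card (kv a b ha hb hab) = 4 := by
  classical
  have hab1 : a * b ≠ 1 := fun e => ne (mul_left_cancel (e.trans ha.symm)).symm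
  have haba : a * b ≠ a := fun e => b1 (mul_left_cancel (e.trans (mul_one a).symm))
  have habb : a * b ≠ b := fun e => a1 (mul_right_cancel (e.trans (one_mul b).symm))
  have hs : ((kv a b ha hb hab : Subgroup G) : Set G) = ↑({1, a, b, a * b} : Finset G) := by
    ext x
    simp [kv]
  rw [← SetLike.coe_sort_coe, Nat.card_coe_set_eq, hs, Set.ncard_coe_finset,
    Finset.card_insert_of_notMem, Finset.card_insert_of_notMem, Finset.card_insert_of_notMem,
    Finset.card_singleton]
  all_goals simp [a1.symm, b1.symm, hab1.symm, ne, haba.symm, habb.symm]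

theorem klein_mul_self {V : Subgroup G} (hV : IsKleinFour V) {a : G} (ha : a ∈ V) : a * a = 1 :=
  congrArg Subtype.val (IsKleinFour.mul_self (⟨a, ha⟩ : V))

theorem klein_comm {V : Subgroup G} (hV : IsKleinFour V) {a b : G} (ha : a ∈ V) (hb : b ∈ V) :
    a * b = b * a := by
  have h := klein_mul_self hV (mul_mem ha hb)
  rw [mul_eq_one_iff_eq_inv, _root_.mul_inv_rev, inv_eq_of_mul_eq_one_right (klein_mul_self hV ha),
    inv_eq_of_mul_eq_one_right (klein_mul_self hV hb)] at h
  exact h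

theorem klein_eq_kv {V : Subgroup G} (hV : IsKleinFour V) {a b : G} (ha : a ∈ V) (hb : b ∈ V)
    (a1 : a ≠ 1) (b1 : b ≠ 1) (ne : a ≠ b) :
    V = kv a b (klein_mul_self hV ha) (klein_mul_self hV hb) (klein_comm hV ha hb) := by
  haveI : Finite V := Nat.finite_of_card_ne_zero (by rw [hV.card_four]; norm_num)
  refine (Subgroup.eq_of_le_of_card_ge ?_ ?_).symm
  · rintro x (rfl | rfl | rfl | rfl)
    · exact one_mem _
    · exact ha
    · exact hb
    · exact mul_mem ha hb
  · rw [card_kv_eq a1 b1 ne, hV.card_four]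

theorem isKleinFour_kv {a b : G} {ha : a * a = 1} {hb : b * b = 1} {hab : a * b = b * a}
    (a1 : a ≠ 1) (b1 : b ≠ 1) (ne : a ≠ b) : IsKleinFour (kv a b ha hb hab) := by
  have hc := card_kv_eq (ha := ha) (hb := hb) (hab := hab) a1 b1 ne
  refine ⟨hc, Nat.dvd_antisymm ?_ ?_⟩
  · rw [Monoid.exponent_dvd_iff_forall_pow_eq_one]
    rintro ⟨x, hx⟩
    apply Subtype.ext
    show x ^ 2 = 1
    rw [pow_two]
    rcases hx with rfl | rfl | rfl | rfl
    · simp
    · exact ha
    · exact hb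
    · rw [mul_assoc, ← mul_assoc b a b, ← hab, mul_assoc a b b, hb, mul_one, ha]
  · refine Nat.dvd_trans ?_ (Monoid.order_dvd_exponent (⟨a, Or.inr (Or.inl rfl)⟩ : kv a b ha hb hab))
    rw [← Subgroup.orderOf_coe, orderOf_eq_prime (by rw [pow_two]; exact ha) a1]

/-- Ordered pairs of distinct non-identity elements of a subgroup. -/
abbrev OrdPair (V : Subgroup G) := {p : V × V // p.1 ≠ 1 ∧ p.2 ≠ 1 ∧ p.1 ≠ p.2}

theorem card_ordPair {V : Subgroup G} (hV : IsKleinFour V) : Nat.card (OrdPair V) = 6 := by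
  classical
  haveI : Finite V := Nat.finite_of_card_ne_zero (by rw [hV.card_four]; norm_num)
  haveI := Fintype.ofFinite V
  have h : (Finset.univ.filter fun p : V × V => p.1 ≠ 1 ∧ p.2 ≠ 1 ∧ p.1 ≠ p.2) =
      (Finset.univ.erase (1 : V)).offDiag := by
    ext p
    simp [Finset.mem_offDiag, and_assoc]
  rw [Nat.card_eq_fintype_card, Fintype.card_subtype, h, Finset.offDiag_card,
    Finset.card_erase_of_mem (Finset.mem_univ _), Finset.card_univ, ← Nat.card_eq_fintype_card,
    hV.card_four]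

/-- The conjugates of a subgroup are as many as the index of its normaliser. -/
theorem card_conjugates [Finite G] (V : Subgroup G) :
    Nat.card {W : Subgroup G // ∃ g : G, W = V.map (MulAut.conj g).toMonoidHom} *
      Nat.card (Subgroup.normalizer (V : Set G)) = Nat.card G := by
  set N := Subgroup.normalizer (V : Set G) with hN
  have hmem : ∀ g x : G, x ∈ V.map (MulAut.conj g).toMonoidHom ↔ g⁻¹ * x * g ∈ V := fun g x => by
    rw [Subgroup.mem_map_equiv]; simp [MulAut.conj_symm_apply]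
  have key : ∀ g k : G, V.map (MulAut.conj g).toMonoidHom = V.map (MulAut.conj k).toMonoidHom ↔
      g⁻¹ * k ∈ N := by
    intro g k
    rw [hN, Subgroup.mem_normalizer_iff, SetLike.ext_iff]
    constructor
    · intro h x
      have := h (k * x * k⁻¹)
      rw [hmem, hmem, show k⁻¹ * (k * x * k⁻¹) * k = x by group] at this
      rw [show g⁻¹ * k * x * (g⁻¹ * k)⁻¹ = g⁻¹ * (k * x * k⁻¹) * g by group]
      exact this.symm
    · intro h y
      rw [hmem, hmem, h (k⁻¹ * y * k),
        show g⁻¹ * k * (k⁻¹ * y * k) * (g⁻¹ * k)⁻¹ = g⁻¹ * y * g by group]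
  let f : G ⧸ N → {W : Subgroup G // ∃ g : G, W = V.map (MulAut.conj g).toMonoidHom} :=
    Quotient.lift (fun g => ⟨V.map (MulAut.conj g).toMonoidHom, g, rfl⟩)
      (fun g k hgk => Subtype.ext ((key g k).2 (QuotientGroup.leftRel_apply.1 hgk)))
  have hf : Function.Bijective f := by
    constructor
    · intro p r
      induction p using QuotientGroup.induction_on with
      | _ g =>
        induction r using QuotientGroup.induction_on with
        | _ k => exact fun e => QuotientGroup.eq.2 ((key g k).1 (congrArg Subtype.val e))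
    · rintro ⟨W, g, rfl⟩
      exact ⟨QuotientGroup.mk g, rfl⟩
  rw [← Nat.card_eq_of_bijective f hf, ← Subgroup.card_eq_card_quotient_mul_card_subgroup N]

theorem map_le_normalizer {K : Type*} [Group K] (φ : K →* G) (N : Subgroup K) [hN : N.Normal]
    {V : Subgroup G} (hV : N.map φ = V) : φ.range ≤ Subgroup.normalizer (V : Set G) := by
  rintro _ ⟨a, rfl⟩
  rw [Subgroup.mem_normalizer_iff]
  intro x
  subst hV
  constructor
  · rintro ⟨m, hm, rfl⟩
    exact ⟨a * m * a⁻¹, hN.conj_mem m hm a, by simp⟩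
  · rintro ⟨m, hm, e⟩
    exact ⟨a⁻¹ * m * a⁻¹⁻¹, hN.conj_mem m hm a⁻¹, by simp [e, mul_assoc]⟩

end Group

variable {F : Type*} [Field F] [Fintype F]

local notation "M2" => Matrix (Fin 2) (Fin 2) F
local notation "PSL" => ProjectiveSpecialLinearGroup (Fin 2) F
local notation "π" => QuotientGroup.mk' (Subgroup.center SL(2, F))

theorem pi_eq_iff {g h : SL(2, F)} : π g = π h ↔ g = h ∨ g = -h := by
  constructor
  · intro e
    rw [QuotientGroup.mk'_eq_mk'] at e
    obtain ⟨z, hz, rfl⟩ := e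
    rcases sl2_center_eq hz with rfl | rfl
    · exact Or.inl (mul_one g).symm
    · exact Or.inr (by rw [mul_neg_one, neg_neg])
  · rintro (rfl | rfl)
    · rfl
    · exact psl_mk_neg h

theorem pi_eq_one_iff {g : SL(2, F)} : π g = 1 ↔ g = 1 ∨ g = -1 := by
  rw [← map_one π, pi_eq_iff]

theorem pi_ne_one {g : SL(2, F)} (h2 : (2 : F) ≠ 0) (hg : g * g = -1) : π g ≠ 1 := fun e => by
  rcases pi_eq_one_iff.1 e with rfl | rfl
  · exact sl2_neg_ne_one h2 (by simpa using hg.symm)
  · exact sl2_neg_ne_one h2 (by simpa using hg.symm)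

theorem pi_mul_self {g : SL(2, F)} (hg : g * g = -1) : π g * π g = 1 := by
  rw [← map_mul, hg]; exact pi_eq_one_iff.2 (Or.inr rfl)

theorem Pair.ne (h2 : (2 : F) ≠ 0) {X Y : SL(2, F)} (h : Pair X Y) : π X ≠ π Y := fun e => by
  have := pi_ne_one h2 h.hXY
  rw [map_mul, e, pi_mul_self h.hY] at this
  exact this rfl

theorem Pair.comm {X Y : SL(2, F)} (h : Pair X Y) : π X * π Y = π Y * π X := by
  rw [← map_mul, ← map_mul, h.hanti]
  exact (psl_mk_neg _).symm

/-- The four-group of a pair. -/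
def Pair.four {X Y : SL(2, F)} (h : Pair X Y) : Subgroup PSL :=
  kv (π X) (π Y) (pi_mul_self h.hX) (pi_mul_self h.hY) h.comm

theorem Pair.isKleinFour (h2 : (2 : F) ≠ 0) {X Y : SL(2, F)} (h : Pair X Y) : IsKleinFour h.four :=
  isKleinFour_kv (pi_ne_one h2 h.hX) (pi_ne_one h2 h.hY) (h.ne h2)

theorem lift_mul_self (h2 : (2 : F) ≠ 0) {g : SL(2, F)} (h : π g * π g = 1) (h1 : π g ≠ 1) : g * g = -1 :=
  psl2_involution_lift h2 g (orderOf_eq_prime (by rw [pow_two]; exact h) h1)

/-- Lifts of two generators of a four-group form a pair. -/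
theorem pair_of_lifts (h2 : (2 : F) ≠ 0) {V : Subgroup PSL} (hV : IsKleinFour V) {X Y : SL(2, F)}
    (ha : π X ∈ V) (hb : π Y ∈ V) (a1 : π X ≠ 1) (b1 : π Y ≠ 1) (ne : π X ≠ π Y) :
    ∃ h : Pair X Y, V = h.four := by
  have hX := lift_mul_self h2 (klein_mul_self hV ha) a1
  have hY := lift_mul_self h2 (klein_mul_self hV hb) b1
  have hXY : X * Y * (X * Y) = -1 := by
    refine lift_mul_self h2 (klein_mul_self hV (by rw [map_mul]; exact mul_mem ha hb)) ?_
    rw [map_mul]
    intro e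
    exact ne (mul_right_cancel (e.trans (klein_mul_self hV hb).symm))
  have hanti : Y * X = -(X * Y) := by
    calc Y * X = X⁻¹ * (X * Y * (X * Y)) * Y⁻¹ := by group
      _ = -(X * Y) := by rw [hXY, sl2_inv_eq_neg hX, sl2_inv_eq_neg hY]; simp
  exact ⟨⟨hX, hY, hanti⟩, klein_eq_kv hV ha hb a1 b1 ne⟩

theorem exists_pair_of_klein (h2 : (2 : F) ≠ 0) {V : Subgroup PSL} (hV : IsKleinFour V) :
    ∃ (X Y : SL(2, F)) (h : Pair X Y), V = h.four := by
  obtain ⟨⟨⟨⟨a, ha⟩, ⟨b, hb⟩⟩, a1, b1, ne⟩⟩ : Nonempty (OrdPair V) :=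
    (Nat.card_pos_iff.1 (by rw [card_ordPair hV]; norm_num)).1
  obtain ⟨X, rfl⟩ := QuotientGroup.mk'_surjective (Subgroup.center SL(2, F)) a
  obtain ⟨Y, rfl⟩ := QuotientGroup.mk'_surjective (Subgroup.center SL(2, F)) b
  exact ⟨X, Y, pair_of_lifts h2 hV ha hb (fun e => a1 (Subtype.ext e)) (fun e => b1 (Subtype.ext e))
    (fun e => ne (Subtype.ext e))⟩

/-- Only scalars commute with both members of a pair. -/
theorem Pair.central (h2 : (2 : F) ≠ 0) {X Y : SL(2, F)} (h : Pair X Y) {g : SL(2, F)}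
    (hgX : g * X = X * g) (hgY : g * Y = Y * g) : g ∈ Subgroup.center SL(2, F) := by
  have hli : LinearIndependent F ![(1 : M2), (X : M2), (Y : M2), (X : M2) * (Y : M2)] := by
    rw [Fintype.linearIndependent_iff]
    intro c hc
    have hc' : c 0 • (1 : M2) + c 1 • (X : M2) + c 2 • (Y : M2) + c 3 • ((X : M2) * (Y : M2)) = (0 : F) • 1 := by
      rw [zero_smul, ← hc]; simp [Fin.sum_univ_four]
    obtain ⟨hb, hc2, hd⟩ := coeff_of_eq_scalar h _ _ _ _ _ hc'
    have hb' := (mul_eq_zero.1 hb).resolve_left h2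
    have hc2' := (mul_eq_zero.1 hc2).resolve_left h2
    have hd' := (mul_eq_zero.1 hd).resolve_left h2
    rw [hb', hc2', hd'] at hc'
    have ha := congrArg (fun M : M2 => M 0 0) hc'
    simp at ha
    intro i
    fin_cases i <;> assumption
  have htop := hli.span_eq_top_of_card_eq_finrank (by simp [Module.finrank_matrix])
  have hall : ∀ M : M2, (g : M2) * M = M * (g : M2) := by
    intro M
    have hM : M ∈ Submodule.span F (Set.range ![(1 : M2), (X : M2), (Y : M2), (X : M2) * (Y : M2)]) := by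
      rw [htop]; trivial
    induction hM using Submodule.span_induction with
    | mem x hx =>
      obtain ⟨i, rfl⟩ := hx
      have eX : (g : M2) * (X : M2) = (X : M2) * (g : M2) := by rw [← sl2_coe_mul, hgX, sl2_coe_mul]
      have eY : (g : M2) * (Y : M2) = (Y : M2) * (g : M2) := by rw [← sl2_coe_mul, hgY, sl2_coe_mul]
      fin_cases i
      · simp
      · simpa using eX
      · simpa using eY
      · show (g : M2) * ((X : M2) * (Y : M2)) = (X : M2) * (Y : M2) * (g : M2)
        rw [← mul_assoc, eX, mul_assoc, eY, mul_assoc]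
    | zero => simp
    | add x y _ _ hx hy => rw [mul_add, add_mul, hx, hy]
    | smul c x _ hx => rw [Matrix.mul_smul, Matrix.smul_mul, hx]
  refine Subgroup.mem_center_iff.2 fun k => sl2_ext ?_
  rw [sl2_coe_mul, sl2_coe_mul, hall]

/-- A four-group is its own centraliser. -/
theorem Pair.mem_four_of_commute (h2 : (2 : F) ≠ 0) {X Y : SL(2, F)} (h : Pair X Y) {a : PSL}
    (hX : a * π X = π X * a) (hY : a * π Y = π Y * a) : a ∈ h.four := by
  obtain ⟨g, rfl⟩ := QuotientGroup.mk'_surjective (Subgroup.center SL(2, F)) a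
  rw [← map_mul, ← map_mul, pi_eq_iff] at hX hY
  have hc : ∀ w : SL(2, F), π w ∈ h.four → (g * w) * X = X * (g * w) → (g * w) * Y = Y * (g * w) →
      π g ∈ h.four := by
    intro w hw e1 e2
    have e : π (g * w) = 1 := by
      rw [← MonoidHom.mem_ker, QuotientGroup.ker_mk']; exact h.central h2 e1 e2
    rw [map_mul, mul_eq_one_iff_eq_inv] at e
    rw [e]
    exact inv_mem hw
  rcases hX with hX | hX <;> rcases hY with hY | hY
  · refine hc 1 (by rw [map_one]; exact one_mem _) ?_ ?_ <;> simpa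
  · refine hc X (Or.inr (Or.inl rfl)) ?_ ?_
    · rw [← mul_assoc X g X, ← hX]
    · have e : X * Y = -(Y * X) := by rw [h.hanti, neg_neg]
      rw [mul_assoc, e, mul_neg, ← mul_assoc, hY, neg_mul, neg_neg, mul_assoc]
  · refine hc Y (Or.inr (Or.inr (Or.inl rfl))) ?_ ?_
    · rw [mul_assoc, h.hanti, mul_neg, ← mul_assoc, hX, neg_mul, neg_neg, mul_assoc]
    · rw [← mul_assoc Y g Y, ← hY]
  · refine hc (X * Y) (Or.inr (Or.inr (Or.inr (map_mul _ _ _)))) ?_ ?_
    · calc g * (X * Y) * X = g * X * (Y * X) := by group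
        _ = X * (g * (X * Y)) := by rw [h.hanti, hX]; simp [mul_assoc]
    · calc g * (X * Y) * Y = g * (X * Y) * Y := rfl
        _ = -((g * (Y * X)) * Y) := by rw [h.hanti]; simp
        _ = -((g * Y) * X * Y) := by simp [mul_assoc]
        _ = Y * (g * (X * Y)) := by rw [hY]; simp [mul_assoc]

theorem card_normalizer_four_le (h2 : (2 : F) ≠ 0) {V : Subgroup PSL} (hV : IsKleinFour V) :
    Nat.card (Subgroup.normalizer (V : Set PSL)) ≤ 24 := by
  classical
  obtain ⟨X, Y, h, rfl⟩ := exists_pair_of_klein h2 hV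
  set N := Subgroup.normalizer (h.four : Set PSL)
  have mA : π X ∈ h.four := Or.inr (Or.inl rfl)
  have mB : π Y ∈ h.four := Or.inr (Or.inr (Or.inl rfl))
  let p : N → OrdPair h.four := fun g =>
    ⟨(⟨g * π X * (g : PSL)⁻¹, (Subgroup.mem_normalizer_iff.1 g.2 _).1 mA⟩,
      ⟨g * π Y * (g : PSL)⁻¹, (Subgroup.mem_normalizer_iff.1 g.2 _).1 mB⟩), by
      refine ⟨fun e => ?_, fun e => ?_, fun e => ?_⟩
      · exact pi_ne_one h2 h.hX (conj_eq_one_iff.1 (congrArg Subtype.val e))
      · exact pi_ne_one h2 h.hY (conj_eq_one_iff.1 (congrArg Subtype.val e))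
      · exact h.ne h2 (mul_left_cancel (mul_right_cancel (congrArg Subtype.val e)))⟩
  let r : OrdPair h.four → N := fun q => Function.invFun p q
  have hr : ∀ g, p (r (p g)) = p g := fun g => Function.invFun_eq ⟨g, rfl⟩
  have hin : ∀ g : N, ((r (p g) : N) : PSL)⁻¹ * (g : PSL) ∈ h.four := by
    intro g
    have e1 := congrArg (fun q : OrdPair h.four => (q.1.1 : PSL)) (hr g)
    have e2 := congrArg (fun q : OrdPair h.four => (q.1.2 : PSL)) (hr g)
    change ((r (p g) : N) : PSL) * π X * ((r (p g) : N) : PSL)⁻¹ = _ at e1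
    change ((r (p g) : N) : PSL) * π Y * ((r (p g) : N) : PSL)⁻¹ = _ at e2
    refine h.mem_four_of_commute h2 ?_ ?_
    · calc _ = ((r (p g) : N) : PSL)⁻¹ * ((g : PSL) * π X * (g : PSL)⁻¹) * g := by group
        _ = _ := by rw [show (g : PSL) * π X * (g : PSL)⁻¹ = _ from e1.symm]; group
    · calc _ = ((r (p g) : N) : PSL)⁻¹ * ((g : PSL) * π Y * (g : PSL)⁻¹) * g := by group
        _ = _ := by rw [show (g : PSL) * π Y * (g : PSL)⁻¹ = _ from e2.symm]; group
  refine le_trans (Nat.card_le_card_of_injective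
    (fun g : N => (p g, (⟨_, hin g⟩ : h.four))) fun g k e => ?_) ?_
  · have e1 := congrArg Prod.fst e
    have e2 := congrArg (fun q : OrdPair h.four × h.four => (q.2 : PSL)) e
    dsimp only at e1 e2
    rw [e1] at e2
    exact Subtype.ext (mul_left_cancel e2)
  · rw [Nat.card_prod, card_ordPair hV, hV.card_four]

theorem card_center_sl2 (h2 : (2 : F) ≠ 0) : Nat.card (Subgroup.center SL(2, F)) = 2 := by
  have hs : ((Subgroup.center SL(2, F)) : Set SL(2, F)) = {1, -1} := by
    ext z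
    simp only [SetLike.mem_coe, Set.mem_insert_iff, Set.mem_singleton_iff]
    refine ⟨sl2_center_eq, ?_⟩
    rintro (rfl | rfl)
    · exact one_mem _
    · exact sl2_neg_one_central
  rw [← SetLike.coe_sort_coe, Nat.card_coe_set_eq, hs, Set.ncard_pair (sl2_neg_ne_one h2).symm]

theorem two_mul_card_psl (h2 : (2 : F) ≠ 0) : 2 * Nat.card PSL = Nat.card SL(2, F) := by
  rw [Subgroup.card_eq_card_quotient_mul_card_subgroup (Subgroup.center SL(2, F)), card_center_sl2 h2,
    mul_comm]

theorem trace_zero_of_anticomm (h2 : (2 : F) ≠ 0) {X g : SL(2, F)} (e : g * X = -(X * g)) :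
    g * g = -1 := by
  apply (sl2_mul_self_eq_neg_one_iff g).2
  have e' : (g : M2) * (X : M2) = -((X : M2) * (g : M2)) := by rw [← sl2_coe_mul, e]; simp
  have hXi : (X : M2) * ((X⁻¹ : SL(2, F)) : M2) = 1 := by rw [← sl2_coe_mul, mul_inv_cancel]; rfl
  have hiX : ((X⁻¹ : SL(2, F)) : M2) * (X : M2) = 1 := by rw [← sl2_coe_mul, inv_mul_cancel]; rfl
  have h : (g : M2).trace = -(g : M2).trace := by
    calc (g : M2).trace = (((X⁻¹ : SL(2, F)) : M2) * (X : M2) * (g : M2)).trace := by rw [hiX, one_mul]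
      _ = (((X⁻¹ : SL(2, F)) : M2) * -((g : M2) * (X : M2))).trace := by rw [e', neg_neg, mul_assoc]
      _ = -(g : M2).trace := by rw [mul_neg, trace_neg, trace_mul_comm, mul_assoc, hXi, mul_one]
  exact (mul_eq_zero.1 (show 2 * (g : M2).trace = 0 by linear_combination h)).resolve_left h2

/-- There are as many pairs as elements of `SL₂`. -/
theorem card_pairs (h2 : (2 : F) ≠ 0) :
    Nat.card {p : SL(2, F) × SL(2, F) // Pair p.1 p.2} = Nat.card SL(2, F) := by
  classical
  obtain ⟨X₀, Y₀, h₀⟩ := exists_pair h2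
  have hc : ∀ X : SL(2, F), X * X = -1 → Nat.card {Y : SL(2, F) // Pair X Y} =
      if Fintype.card F % 4 = 1 then Fintype.card F - 1 else Fintype.card F + 1 := by
    intro X hX
    obtain ⟨t, rfl⟩ := sl2_trace_zero_conj h2 h₀.hX hX
    rw [← sl2_card_centralizer h2 hX]
    set X := t * X₀ * t⁻¹
    set Y := t * Y₀ * t⁻¹
    have hYX : Y * X = -(X * Y) := by
      calc Y * X = t * (Y₀ * X₀) * t⁻¹ := by simp only [X, Y]; group
        _ = -(t * (X₀ * Y₀) * t⁻¹) := by rw [h₀.hanti]; simp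
        _ = -(X * Y) := by simp only [X, Y]; congr 1; group
    have hY : Y * Y = -1 := trace_zero_of_anticomm h2 hYX
    refine Nat.card_congr
      { toFun := fun Z => ⟨Y * Z.1, ?_⟩
        invFun := fun c => ⟨Y⁻¹ * c.1, ?_⟩
        left_inv := fun Z => Subtype.ext (inv_mul_cancel_left Y Z.1)
        right_inv := fun c => Subtype.ext (mul_inv_cancel_left Y c.1) }
    · rw [Subgroup.mem_centralizer_singleton_iff, mul_assoc, Z.2.hanti, mul_neg, ← mul_assoc, hYX,
        neg_mul, neg_neg, mul_assoc]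
    · have hcX := Subgroup.mem_centralizer_singleton_iff.1 c.2
      have e : Y⁻¹ * c.1 * X = -(X * (Y⁻¹ * c.1)) := by
        rw [sl2_inv_eq_neg hY, mul_assoc, hcX]
        simp only [neg_mul, mul_neg, neg_neg, ← mul_assoc]
        rw [hYX]; simp
      exact ⟨hX, trace_zero_of_anticomm h2 e, e⟩
  have e : {p : SL(2, F) × SL(2, F) // Pair p.1 p.2} ≃
      Σ X : {g : SL(2, F) // g * g = -1}, {Y : SL(2, F) // Pair X.1 Y} :=
    { toFun := fun p => ⟨⟨p.1.1, p.2.hX⟩, p.1.2, p.2⟩
      invFun := fun s => ⟨(s.1.1, s.2.1), s.2.2⟩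
      left_inv := fun _ => rfl
      right_inv := fun _ => rfl }
  haveI := Fintype.ofFinite SL(2, F)
  rw [Nat.card_congr e, Nat.card_sigma, Finset.sum_congr rfl (fun X _ => hc X.1 X.2), Finset.sum_const,
    Finset.card_univ, ← Nat.card_eq_fintype_card, smul_eq_mul, sl2_card_trace_zero h2, card_sl2']
  split_ifs <;> ring

/-- Twelve times the number of four-groups is the group order. -/
theorem twelve_mul_card_four (h2 : (2 : F) ≠ 0) :
    12 * Nat.card {V : Subgroup PSL // IsKleinFour V} = Nat.card PSL := by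
  classical
  let s : PSL → SL(2, F) := Function.surjInv (QuotientGroup.mk'_surjective _)
  have hs : ∀ a, π (s a) = a := Function.surjInv_eq _
  let sg : Bool → SL(2, F) → SL(2, F) := fun b g => if b then g else -g
  have hsg : ∀ b g, π (sg b g) = π g := fun b g => by
    cases b
    · exact psl_mk_neg g
    · rfl
  have hsgi : ∀ g b b', sg b g = sg b' g → b = b' := by
    intro g b b' e
    have hne : (g : SL(2, F)) ≠ -g := fun e => sl2_neg_ne_one h2 (by
      have := congrArg (fun x => g⁻¹ * x) e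
      simpa using this.symm)
    cases b <;> cases b' <;> simp only [sg, Bool.false_eq_true, if_false, if_true] at e ⊢
    · exact absurd e.symm hne
    · exact absurd e hne
  let Q := Σ V : {V : Subgroup PSL // IsKleinFour V}, OrdPair V.1
  have hQ : ∀ q : Q, ∀ b b' : Bool, ∃ h : Pair (sg b (s q.2.1.1)) (sg b' (s q.2.1.2)), q.1.1 = h.four := by
    rintro ⟨⟨V, hV⟩, ⟨⟨a, ha⟩, ⟨c, hc⟩⟩, a1, c1, ne⟩ b b'
    refine pair_of_lifts h2 hV ?_ ?_ ?_ ?_ ?_ <;> simp only [hsg, hs]
    · exact ha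
    · exact hc
    · exact fun e => a1 (Subtype.ext e)
    · exact fun e => c1 (Subtype.ext e)
    · exact fun e => ne (Subtype.ext e)
  let B : Q × Bool × Bool → {p : SL(2, F) × SL(2, F) // Pair p.1 p.2} := fun x =>
    ⟨(sg x.2.1 (s x.1.2.1.1), sg x.2.2 (s x.1.2.1.2)), (hQ x.1 x.2.1 x.2.2).1⟩
  have hB : Function.Bijective B := by
    constructor
    · rintro ⟨⟨⟨V, hV⟩, ⟨⟨a, ha⟩, ⟨c, hc⟩⟩, P⟩, b, b'⟩ ⟨⟨⟨W, hW⟩, ⟨⟨a', ha'⟩, ⟨c', hc'⟩⟩, P'⟩, d, d'⟩ e
      have e1 : sg b (s a) = sg d (s a') := congrArg (fun p => p.1.1) e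
      have e2 : sg b' (s c) = sg d' (s c') := congrArg (fun p => p.1.2) e
      have ea : a = a' := by
        have := congrArg π e1; rwa [hsg, hsg, hs, hs] at this
      have ec : c = c' := by
        have := congrArg π e2; rwa [hsg, hsg, hs, hs] at this
      subst ea ec
      have hVW : V = W := (klein_eq_kv hV ha hc (fun h => P.1 (Subtype.ext h)) (fun h => P.2.1 (Subtype.ext h))
        (fun h => P.2.2 (Subtype.ext h))).trans
          (klein_eq_kv hW ha' hc' (fun h => P.1 (Subtype.ext h)) (fun h => P.2.1 (Subtype.ext h))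
            (fun h => P.2.2 (Subtype.ext h))).symm
      subst hVW
      rw [hsgi _ _ _ e1, hsgi _ _ _ e2]
    · rintro ⟨⟨X, Y⟩, h⟩
      have hbX : ∃ b, sg b (s (π X)) = X := by
        rcases pi_eq_iff.1 (hs (π X)) with e | e
        · exact ⟨true, e⟩
        · exact ⟨false, (congrArg Neg.neg e).trans (neg_neg X)⟩
      have hbY : ∃ b, sg b (s (π Y)) = Y := by
        rcases pi_eq_iff.1 (hs (π Y)) with e | e
        · exact ⟨true, e⟩
        · exact ⟨false, (congrArg Neg.neg e).trans (neg_neg Y)⟩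
      obtain ⟨b, hb⟩ := hbX
      obtain ⟨b', hb'⟩ := hbY
      refine ⟨(⟨⟨h.four, h.isKleinFour h2⟩, ⟨(⟨π X, Or.inr (Or.inl rfl)⟩, ⟨π Y, Or.inr (Or.inr (Or.inl rfl))⟩),
        fun e => pi_ne_one h2 h.hX (congrArg Subtype.val e),
        fun e => pi_ne_one h2 h.hY (congrArg Subtype.val e),
        fun e => h.ne h2 (congrArg Subtype.val e)⟩⟩, b, b'), ?_⟩
      exact Subtype.ext (Prod.ext hb hb')
  haveI := Fintype.ofFinite {V : Subgroup PSL // IsKleinFour V}
  have e := Nat.card_eq_of_bijective B hB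
  rw [card_pairs h2, ← two_mul_card_psl h2, Nat.card_prod, Nat.card_prod, Nat.card_sigma,
    Finset.sum_congr rfl (fun V _ => card_ordPair V.2), Finset.sum_const, Finset.card_univ,
    ← Nat.card_eq_fintype_card, smul_eq_mul, Nat.card_eq_fintype_card (α := Bool), Fintype.card_bool] at e
  omega

theorem Table.elt_eq {K : Type*} [Group K] {d k : ℤ} {n : ℕ} (D : Table K d k n) (f : Zsqrtd d →+* F)
    (hk : (k : F) ≠ 0) {X Y : SL(2, F)} (h : Pair X Y) (i : Fin (n + 1)) :
    (D.T i = ⟨0, k, 0, 0⟩ ∨ D.T i = ⟨0, -k, 0, 0⟩ → π (D.elt f hk h i) = π X) ∧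
    (D.T i = ⟨0, 0, k, 0⟩ ∨ D.T i = ⟨0, 0, -k, 0⟩ → π (D.elt f hk h i) = π Y) := by
  refine ⟨fun hT => ?_, fun hT => ?_⟩ <;> rw [pi_eq_iff] <;> rcases hT with hT | hT
  all_goals first
    | (left; apply sl2_ext; show (k : F)⁻¹ • ev f X Y (D.T i) = _
       rw [hT]; simp [ev, smul_smul, inv_mul_cancel₀ hk]; done)
    | (right; apply sl2_ext; show (k : F)⁻¹ • ev f X Y (D.T i) = _
       rw [hT]; simp [ev, smul_smul, inv_mul_cancel₀ hk]; done)

/-- A table moves the four-group of the pair into itself. -/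
theorem Table.exists_hom_normalizer {K : Type*} [Group K] {d k : ℤ} {n : ℕ} (D : Table K d k n)
    (iX iY : Fin (n + 1)) (hiX : D.T iX = ⟨0, k, 0, 0⟩ ∨ D.T iX = ⟨0, -k, 0, 0⟩)
    (hiY : D.T iY = ⟨0, 0, k, 0⟩ ∨ D.T iY = ⟨0, 0, -k, 0⟩)
    (hnorm : ∀ j, ∀ i ∈ [iX, iY], ∃ v ∈ [D.P iX, D.P iY, D.P iX * D.P iY, 1],
      D.P (D.G j) * D.P i = v * D.P (D.G j))
    (f : Zsqrtd d →+* F) (h2 : (2 : F) ≠ 0) (hk : (k : F) ≠ 0) {X Y : SL(2, F)} (h : Pair X Y) :
    ∃ φ : K →* PSL, Function.Injective φ ∧ φ.range ≤ Subgroup.normalizer (h.four : Set PSL) := by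
  obtain ⟨φ, hφ, hval⟩ := D.exists_hom f h2 hk h
  refine ⟨φ, hφ, ?_⟩
  have hX : φ (D.P iX) = π X := (hval iX).trans ((D.elt_eq f hk h iX).1 hiX)
  have hY : φ (D.P iY) = π Y := (hval iY).trans ((D.elt_eq f hk h iY).2 hiY)
  have hgen : ∀ j, φ (D.P (D.G j)) ∈ Subgroup.normalizer (h.four : Set PSL) := by
    intro j
    have hmem : ∀ v ∈ [D.P iX, D.P iY, D.P iX * D.P iY, 1], φ v ∈ h.four := by
      intro v hv
      simp only [List.mem_cons, List.not_mem_nil, or_false] at hv
      rcases hv with rfl | rfl | rfl | rfl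
      · exact Or.inr (Or.inl hX)
      · exact Or.inr (Or.inr (Or.inl hY))
      · exact Or.inr (Or.inr (Or.inr (by rw [map_mul, hX, hY])))
      · exact Or.inl (map_one φ)
    have hconj : ∀ i ∈ [iX, iY], φ (D.P (D.G j)) * φ (D.P i) * (φ (D.P (D.G j)))⁻¹ ∈ h.four := by
      intro i hi
      obtain ⟨v, hv, e⟩ := hnorm j i hi
      rw [← map_mul, e, map_mul, mul_inv_cancel_right]
      exact hmem v hv
    set g := φ (D.P (D.G j))
    have hle : h.four.map (MulAut.conj g).toMonoidHom ≤ h.four := by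
      rintro _ ⟨x, hx, rfl⟩
      show g * x * g⁻¹ ∈ h.four
      have a1 : g * π X * g⁻¹ ∈ h.four := by rw [← hX]; exact hconj iX (by simp)
      have a2 : g * π Y * g⁻¹ ∈ h.four := by rw [← hY]; exact hconj iY (by simp)
      rcases hx with rfl | rfl | rfl | rfl
      · simpa using one_mem h.four
      · exact a1
      · exact a2
      · rw [show g * (π X * π Y) * g⁻¹ = (g * π X * g⁻¹) * (g * π Y * g⁻¹) by group]
        exact mul_mem a1 a2
    have heq : h.four.map (MulAut.conj g).toMonoidHom = h.four :=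
      Subgroup.eq_of_le_of_card_ge hle (le_of_eq
        (Nat.card_congr (h.four.equivMapOfInjective _ (MulAut.conj g).injective).toEquiv))
    rw [Subgroup.mem_normalizer_iff]
    intro x
    constructor
    · intro hx; rw [← heq]; exact ⟨x, hx, rfl⟩
    · intro hx
      rw [← heq] at hx
      obtain ⟨y, hy, e⟩ := hx
      have : y = x := (MulAut.conj g).injective e
      rwa [← this]
  rintro _ ⟨a, rfl⟩
  obtain ⟨i, rfl⟩ := D.bij.2 a
  induction i using WellFoundedLT.induction with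
  | ind i ih =>
    by_cases hi : i = 0
    · rw [hi, D.P_zero, map_one]; exact one_mem _
    obtain ⟨hlt, hR⟩ := D.hpar i hi
    rw [← hR, ← D.hP, map_mul]
    exact mul_mem (ih _ hlt) (hgen _)

theorem four_ne_zero' (h2 : (2 : F) ≠ 0) : ((2 : ℤ) : F) ≠ 0 ∧ ((4 : ℤ) : F) ≠ 0 :=
  ⟨two_unit_cast h2 (by decide), two_unit_cast h2 (by decide)⟩

/-- The normaliser of every four-group contains `A₄`. -/
theorem exists_a4_normalizer (h2 : (2 : F) ≠ 0) {X Y : SL(2, F)} (h : Pair X Y) :
    ∃ φ : alternatingGroup (Fin 4) →* PSL, Function.Injective φ ∧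
      φ.range ≤ Subgroup.normalizer (h.four : Set PSL) :=
  tableA4.exists_hom_normalizer 2 11 (by decide +kernel) (by decide +kernel) (by decide +kernel)
    (Zsqrtd.lift ⟨1, by simp⟩) h2 (four_ne_zero' h2).1 h

/-- With `√2` the normaliser of every four-group contains `S₄`. -/
theorem exists_s4_normalizer (h2 : (2 : F) ≠ 0) {r : F} (hr : r * r = 2) {X Y : SL(2, F)} (h : Pair X Y) :
    ∃ φ : Equiv.Perm (Fin 4) →* PSL, Function.Injective φ ∧
      φ.range ≤ Subgroup.normalizer (h.four : Set PSL) :=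
  tableS4.exists_hom_normalizer 6 20 (by decide +kernel) (by decide +kernel) (by decide +kernel)
    (Zsqrtd.lift ⟨r, by simpa using hr⟩) h2 (four_ne_zero' h2).1 h

end CfsgLib.Classical.Quat
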