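import Cfsg.Agent.Lib.Classical.Quat.Basic
import Mathlib.NumberTheory.Zsqrtd.Basic

/-!
# Monomorphisms from quaternion tables
-/

set_option autoImplicit false
set_option linter.unusedSectionVars false
set_option backward.isDefEq.respectTransparency false

open Matrix
open scoped MatrixGroups

namespace CfsgLib.Classical.Quat

/-- A quaternion table for the group `K`. -/
structure Table (K : Type*) [Group K] (d k : ℤ) (n : ℕ) where
  P : Fin (n + 1) → K
  bij : Function.Bijective P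
  T : Fin (n + 1) → Quad (Zsqrtd d)
  G : Fin 2 → Fin (n + 1)
  R : Fin 2 → Fin (n + 1) → Fin (n + 1)
  par : Fin (n + 1) → Fin (n + 1) × Fin 2
  P_zero : P 0 = 1
  T_zero : T 0 = ⟨(k : Zsqrtd d), 0, 0, 0⟩
  hP : ∀ j i, P i * P (G j) = P (R j i)
  hT : ∀ j i, qmul (T i) (T (G j)) = qscale (k : Zsqrtd d) (T (R j i)) ∨
    qmul (T i) (T (G j)) = qscale (-k : Zsqrtd d) (T (R j i))
  hpar : ∀ i, i ≠ 0 → (par i).1 < i ∧ R (par i).2 (par i).1 = i
  hnorm : ∀ i, qnorm (T i) = ((k * k : ℤ) : Zsqrtd d)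
  hunit : ∀ i, i ≠ 0 → (T i).x.norm ∈ [1, -1, 2, -2, 4, -4, 16, -16] ∨
    (T i).y.norm ∈ [1, -1, 2, -2, 4, -4, 16, -16] ∨ (T i).z.norm ∈ [1, -1, 2, -2, 4, -4, 16, -16]

variable {F : Type*} [Field F]

local notation "M2" => Matrix (Fin 2) (Fin 2) F
local notation "PSL" => ProjectiveSpecialLinearGroup (Fin 2) F

theorem two_unit_cast (h2 : (2 : F) ≠ 0) {m : ℤ} (hm : m ∈ [1, -1, 2, -2, 4, -4, 16, -16]) :
    (m : F) ≠ 0 := by
  have h4 : (4 : F) ≠ 0 := by rw [show (4 : F) = 2 * 2 by norm_num]; exact mul_ne_zero h2 h2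
  have h16 : (16 : F) ≠ 0 := by rw [show (16 : F) = 4 * 4 by norm_num]; exact mul_ne_zero h4 h4
  simp only [List.mem_cons, List.not_mem_nil, or_false] at hm
  rcases hm with rfl | rfl | rfl | rfl | rfl | rfl | rfl | rfl <;> simp [h2, h4, h16]

theorem map_ne_zero_of_norm {d : ℤ} (f : Zsqrtd d →+* F) (h2 : (2 : F) ≠ 0) {c : Zsqrtd d}
    (hc : c.norm ∈ [1, -1, 2, -2, 4, -4, 16, -16]) : f c ≠ 0 := fun e => by
  have := congrArg f (Zsqrtd.norm_eq_mul_conj c)
  rw [map_mul, e, zero_mul, map_intCast] at this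
  exact two_unit_cast h2 hc this

/-- The class of a special matrix does not see the sign. -/
theorem psl_mk_neg [Fintype F] (g : SL(2, F)) : (((-g : SL(2, F))) : PSL) = (g : PSL) := by
  refine QuotientGroup.eq.2 ?_
  rw [inv_neg, neg_mul, inv_mul_cancel]
  exact sl2_neg_one_central

variable {K : Type*} [Group K] {d k : ℤ} {n : ℕ}

/-- The element of `SL₂(F)` of an entry. -/
noncomputable def Table.elt (D : Table K d k n) (f : Zsqrtd d →+* F) (hk : (k : F) ≠ 0)
    {X Y : SL(2, F)} (h : Pair X Y) (i : Fin (n + 1)) : SL(2, F) :=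
  ⟨(k : F)⁻¹ • ev f X Y (D.T i), by
    rw [det_smul, ev_det f h, D.hnorm, map_intCast, Fintype.card_fin]
    push_cast
    field_simp⟩

theorem Table.exists_hom [Fintype F] (D : Table K d k n) (f : Zsqrtd d →+* F) (h2 : (2 : F) ≠ 0) (hk : (k : F) ≠ 0)
    {X Y : SL(2, F)} (h : Pair X Y) :
    ∃ φ : K →* PSL, Function.Injective φ ∧ ∀ i, φ (D.P i) = (D.elt f hk h i : PSL) := by
  classical
  let e := Equiv.ofBijective D.P D.bij
  let φ : K → PSL := fun a => (D.elt f hk h (e.symm a) : PSL)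
  have hφ : ∀ i, φ (D.P i) = (D.elt f hk h i : PSL) := fun i =>
    congrArg (fun t => (D.elt f hk h t : PSL)) (e.symm_apply_apply i)
  have hone : φ 1 = 1 := by
    rw [← D.P_zero, hφ, ← QuotientGroup.mk_one]
    congr 1
    apply sl2_ext
    show (k : F)⁻¹ • ev f X Y (D.T 0) = 1
    simp [ev, D.T_zero, smul_smul, inv_mul_cancel₀ hk]
  have hgen : ∀ j a, φ (a * D.P (D.G j)) = φ a * φ (D.P (D.G j)) := by
    intro j a
    obtain ⟨i, rfl⟩ := D.bij.2 a
    rw [D.hP, hφ, hφ, hφ, ← QuotientGroup.mk_mul]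
    have hm : ∀ c : F, ev f X Y (qmul (D.T i) (D.T (D.G j))) = c • ev f X Y (D.T (D.R j i)) →
        ((D.elt f hk h i * D.elt f hk h (D.G j) : SL(2, F)) : M2) =
          ((k : F)⁻¹ * (k : F)⁻¹ * c) • ev f X Y (D.T (D.R j i)) := by
      intro c hc
      show ((k : F)⁻¹ • ev f X Y (D.T i)) * ((k : F)⁻¹ • ev f X Y (D.T (D.G j))) = _
      rw [smul_mul_smul_comm, ev_mul f h, hc, smul_smul]
    rcases D.hT j i with e' | e'
    · congr 1
      apply sl2_ext
      rw [hm (k : F) (by rw [e', ev_scale, map_intCast])]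
      show (k : F)⁻¹ • _ = _
      congr 1
      field_simp
    · rw [← psl_mk_neg (D.elt f hk h (D.R j i))]
      congr 1
      apply sl2_ext
      rw [hm (-(k : F)) (by rw [e', ev_scale, map_neg, map_intCast])]
      show -((k : F)⁻¹ • _) = _
      rw [← neg_smul]
      congr 1
      field_simp
  have hall : ∀ i, ∀ a, φ (a * D.P i) = φ a * φ (D.P i) := by
    intro i
    induction i using WellFoundedLT.induction with
    | ind i ih =>
      intro a
      by_cases hi : i = 0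
      · rw [hi, D.P_zero, mul_one, hone, mul_one]
      obtain ⟨hlt, hR⟩ := D.hpar i hi
      rw [← hR, ← D.hP, ← mul_assoc, hgen, ih _ hlt, hgen _ (D.P _), mul_assoc]
  let Φ : K →* PSL :=
    { toFun := φ
      map_one' := hone
      map_mul' := fun a b => by
        obtain ⟨i, rfl⟩ := D.bij.2 b
        exact hall i a }
  refine ⟨Φ, ?_, hφ⟩
  rw [injective_iff_map_eq_one]
  intro a ha
  obtain ⟨i, rfl⟩ := D.bij.2 a
  change φ (D.P i) = 1 at ha
  rw [hφ, QuotientGroup.eq_one_iff] at ha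
  by_contra hne
  have hi : i ≠ 0 := fun e => hne (by rw [e, D.P_zero])
  obtain ⟨c, hc⟩ : ∃ c : F, ev f X Y (D.T i) = c • (1 : M2) := by
    rcases sl2_center_eq ha with e1 | e1
    · refine ⟨(k : F), ?_⟩
      have := congrArg (fun g : SL(2, F) => (k : F) • (g : M2)) e1
      simpa [Table.elt, smul_smul, mul_inv_cancel₀ hk] using this
    · refine ⟨-(k : F), ?_⟩
      have := congrArg (fun g : SL(2, F) => (k : F) • (g : M2)) e1
      simpa [Table.elt, smul_smul, mul_inv_cancel₀ hk] using this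
  obtain ⟨hx, hy, hz⟩ := coeff_of_eq_scalar h _ _ _ _ c hc
  rcases D.hunit i hi with hu | hu | hu
  · exact map_ne_zero_of_norm f h2 hu ((mul_eq_zero.1 hx).resolve_left h2)
  · exact map_ne_zero_of_norm f h2 hu ((mul_eq_zero.1 hy).resolve_left h2)
  · exact map_ne_zero_of_norm f h2 hu ((mul_eq_zero.1 hz).resolve_left h2)

/-- A pair exists. -/
theorem exists_pair [Fintype F] (h2 : (2 : F) ≠ 0) : ∃ X Y : SL(2, F), Pair X Y := by
  have hJ : (sl2J : SL(2, F)) * sl2J = -1 :=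
    (sl2_mul_self_eq_neg_one_iff _).2 (by simp [sl2J, trace_fin_two])
  obtain ⟨b, hb, hbc⟩ := sl2_exists_inverter h2 (sl2J : SL(2, F)) (by
    rw [(sl2_mul_self_eq_neg_one_iff _).1 hJ]
    intro h4
    exact mul_ne_zero h2 h2 (by linear_combination -h4))
  refine ⟨sl2J, b, hJ, hb, ?_⟩
  rw [sl2_inv_eq_neg hJ, mul_inv_eq_iff_eq_mul] at hbc
  rw [hbc, neg_mul]

end CfsgLib.Classical.Quat
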